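import Groth.Agent.Lib.Comodule.CoactAlg
import Groth.Agent.Lib.HopfMod.Ideal
import Mathlib.RingTheory.FiniteType
import Mathlib.RingTheory.Polynomial.Basic
import Mathlib.Algebra.Polynomial.Monomial

/-!
# Invariants of a finitely generated equivariant algebra
-/

open TensorProduct HopfRep Groth.Agent.Comodule
open scoped Polynomial

universe u v w

namespace Groth.Agent.FinGenH28

set_option linter.unusedSectionVars false
set_option linter.style.haveILetI false

section Mul

variable {k : Type u} [Field k] {A : Type v} [CommRing A] [Bialgebra k A]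
variable {R : Type w} [CommRing R] [Algebra k R] [Comod k A R] [GLin.IsCoactAlg k A R]

lemma tens_mul {N N' : Submodule k R} {p q : R ⊗[k] A} (hp : p ∈ tens A N) (hq : q ∈ tens A N') :
    p * q ∈ tens A (N * N') := by
  obtain ⟨p, rfl⟩ := hp
  obtain ⟨q, rfl⟩ := hq
  induction p with
  | zero => simp
  | add p p' hp hp' => rw [map_add, add_mul]; exact add_mem hp hp'
  | tmul f a =>
    induction q with
    | zero => simp
    | add q q' hq hq' => rw [map_add, mul_add]; exact add_mem hq hq'
    | tmul g b =>
      rw [LinearMap.rTensor_tmul, LinearMap.rTensor_tmul, Algebra.TensorProduct.tmul_mul_tmul]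
      exact tmul_mem_tens (Submodule.mul_mem_mul f.2 g.2) _

/-- A product of subcomodules is a subcomodule. -/
lemma isSubcomod_mul {N N' : Submodule k R} (h : IsSubcomod (k := k) (A := A) N)
    (h' : IsSubcomod (k := k) (A := A) N') : IsSubcomod (k := k) (A := A) (N * N') := by
  have : N * N' ≤ (tens A (N * N')).comap (Comod.coact (k := k) (A := A)) := by
    refine Submodule.mul_le.2 fun a ha b hb => ?_
    rw [Submodule.mem_comap, GLin.IsCoactAlg.coact_mul]
    exact tens_mul (h a ha) (h' b hb)
  exact fun v hv => this hv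

lemma isSubcomod_span_one : IsSubcomod (k := k) (A := A) (Submodule.span k ({1} : Set R)) := by
  intro v hv
  obtain ⟨c, rfl⟩ := Submodule.mem_span_singleton.1 hv
  rw [map_smul, GLin.IsCoactAlg.coact_one, Algebra.TensorProduct.one_def]
  exact Submodule.smul_mem _ _ (tmul_mem_tens (Submodule.mem_span_singleton_self 1) _)

lemma isSubcomod_pow {N : Submodule k R} (h : IsSubcomod (k := k) (A := A) N) :
    ∀ n : ℕ, IsSubcomod (k := k) (A := A) (N ^ n)
  | 0 => by rw [pow_zero, Submodule.one_eq_span]; exact isSubcomod_span_one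
  | n + 1 => by rw [pow_succ]; exact isSubcomod_mul (isSubcomod_pow h n) h

/-- A finite set lies in a finite-dimensional subcomodule. -/
lemma exists_finite_subcomod_finset {V : Type w} [AddCommGroup V] [Module k V] [Comod k A V]
    (s : Finset V) : ∃ N : Submodule k V, IsSubcomod (k := k) (A := A) N ∧ Module.Finite k N ∧ ↑s ⊆ (N : Set V) := by
  classical
  choose N hN hfin hmem using fun v : V => exists_finite_subcomod (k := k) (A := A) v
  refine ⟨⨆ i : {x // x ∈ s}, N i.1, isSubcomod_iSup _ fun i => hN i.1, ?_, fun v hv => ?_⟩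
  · haveI := fun i : {x // x ∈ s} => hfin i.1
    exact Submodule.finite_iSup (fun i : {x // x ∈ s} => N i.1)
  · exact Submodule.mem_iSup_of_mem (⟨v, hv⟩ : {x // x ∈ s}) (hmem v)

end Mul

section Main

variable {k : Type u} [Field k] {H : Type u} [CommRing H] [HopfAlgebra k H]

/-- **Hilbert**: invariants of a finitely generated equivariant algebra over a Noetherian algebra are
finitely generated over the invariants. -/
theorem exists_finset_invariants_eq (hG : IsLinearlyReductive k H)
    {A : Type u} [CommRing A] [Algebra k A] [IsNoetherianRing A] [Comod k H A] [GLin.IsCoactAlg k H A]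
    {C : Type u} [CommRing C] [Algebra k C] [Comod k H C] [GLin.IsCoactAlg k H C]
    [Algebra A C] [IsScalarTower k A C] [Algebra.FiniteType A C]
    (hAC : Hoch.IsComodHom H (IsScalarTower.toAlgHom k A C).toLinearMap) :
    ∃ s : Finset C, GLin.invariants k H C =
      Algebra.adjoin k (⇑(algebraMap A C) '' ↑(GLin.invariants k H A) ∪ ↑s) := by
  classical
  obtain ⟨gen, hgen⟩ := Algebra.FiniteType.out (R := A) (A := C)
  obtain ⟨W, hW, hWfin, hgW⟩ := exists_finite_subcomod_finset (k := k) (A := H) gen
  obtain ⟨t, ht⟩ := (Module.Finite.iff_fg.1 hWfin)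
  let V : Submodule k C := W ⊔ Submodule.span k {1}
  have hV : IsSubcomod (k := k) (A := H) V := isSubcomod_sup hW isSubcomod_span_one
  have hV1 : (1 : C) ∈ V := Submodule.mem_sup_right (Submodule.mem_span_singleton_self 1)
  let B : Submodule k C := LinearMap.range (IsScalarTower.toAlgHom k A C).toLinearMap
  have hBmem : ∀ a, algebraMap A C a ∈ B := fun a => ⟨a, rfl⟩
  have hB : IsSubcomod (k := k) (A := H) B := by
    have := isSubcomod_map hAC (N := (⊤ : Submodule k A))
      (fun a _ => by
        show Comod.coact (k := k) (A := H) a ∈ tens H ⊤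
        have : tens H (⊤ : Submodule k A) = ⊤ := by
          refine eq_top_iff.2 fun x hx => ?_
          clear hx
          induction x with
          | zero => exact zero_mem _
          | tmul m n => exact tmul_mem_tens Submodule.mem_top _
          | add p q hp hq => exact add_mem hp hq
        rw [this]; trivial)
    rwa [Submodule.map_top] at this
  have hBB : B * B ≤ B := Submodule.mul_le.2 fun _ ⟨a, ha⟩ _ ⟨b, hb⟩ => ⟨a * b, by
    subst ha; subst hb; exact map_mul (IsScalarTower.toAlgHom k A C) a b⟩
  let F : ℕ → Submodule k C := fun n => B * V ^ n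
  have hF : ∀ n, IsSubcomod (k := k) (A := H) (F n) := fun n => isSubcomod_mul hB (isSubcomod_pow hV n)
  have hB1 : (1 : C) ∈ B := ⟨1, map_one (IsScalarTower.toAlgHom k A C)⟩
  have hVpow : ∀ (n : ℕ), (1 : C) ∈ V ^ n := by
    intro n
    induction n with
    | zero => rw [pow_zero]; exact Submodule.one_le.1 le_rfl
    | succ n ih => rw [pow_succ, ← one_mul (1 : C)]; exact Submodule.mul_mem_mul ih hV1
  have hF0 : ∀ a, algebraMap A C a ∈ F 0 := fun a => by
    rw [← mul_one (algebraMap A C a)]; exact Submodule.mul_mem_mul (hBmem a) (hVpow 0)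
  have hFmul : ∀ a b {x y : C}, x ∈ F a → y ∈ F b → x * y ∈ F (a + b) := by
    intro a b x y hx hy
    have h1 : x * y ∈ F a * F b := Submodule.mul_mem_mul hx hy
    have h2 : F a * F b = (B * B) * V ^ (a + b) := by rw [pow_add, mul_mul_mul_comm]
    rw [h2] at h1
    exact mul_le_mul' hBB (le_refl (V ^ (a + b))) h1
  have hF1 : ∀ x ∈ V, x ∈ F 1 := fun x hx => by
    rw [← one_mul x]; exact Submodule.mul_mem_mul hB1 (by rwa [pow_one])
  have hFmono : ∀ a b, a ≤ b → F a ≤ F b := by
    intro a b hab x hx
    obtain ⟨c, rfl⟩ := Nat.exists_eq_add_of_le hab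
    induction c with
    | zero => exact hx
    | succ c ih => rw [← mul_one x, ← Nat.add_assoc]; exact hFmul _ 1 (ih (by omega)) (hF1 1 hV1)
  have hexh : ∀ c : C, ∃ n, c ∈ F n := by
    intro c
    have hc : c ∈ Algebra.adjoin A (gen : Set C) := by rw [hgen]; trivial
    induction hc using Algebra.adjoin_induction with
    | mem x hx => exact ⟨1, hF1 x (Submodule.mem_sup_left (hgW hx))⟩
    | algebraMap a => exact ⟨0, hF0 a⟩
    | add x y _ _ hx hy =>
      obtain ⟨a, ha⟩ := hx
      obtain ⟨b, hb⟩ := hy
      exact ⟨max a b, add_mem (hFmono a _ (le_max_left _ _) ha) (hFmono b _ (le_max_right _ _) hb)⟩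
    | mul x y _ _ hx hy =>
      obtain ⟨a, ha⟩ := hx
      obtain ⟨b, hb⟩ := hy
      exact ⟨a + b, hFmul a b ha hb⟩
  -- the Rees algebra
  let G : Finset C[X] := insert Polynomial.X (t.image (Polynomial.monomial 1))
  let Rees : Subalgebra A C[X] := Algebra.adjoin A (G : Set C[X])
  haveI : Algebra.FiniteType A Rees :=
    (Subalgebra.fg_iff_finiteType _).1 ⟨G, rfl⟩
  haveI : IsNoetherianRing Rees := Algebra.FiniteType.isNoetherianRing A Rees
  have hcoeff : ∀ p ∈ Rees, ∀ n, Polynomial.coeff p n ∈ F n := by
    intro p hp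
    induction hp using Algebra.adjoin_induction with
    | mem x hx =>
      intro n
      rcases Finset.mem_insert.1 (Finset.mem_coe.1 hx) with rfl | hx
      · rw [Polynomial.coeff_X]
        split_ifs with h
        · subst h; exact hF1 1 hV1
        · exact zero_mem _
      · obtain ⟨w, hw, rfl⟩ := Finset.mem_image.1 hx
        rw [Polynomial.coeff_monomial]
        split_ifs with h
        · subst h; exact hF1 w (Submodule.mem_sup_left (ht ▸ Submodule.subset_span hw))
        · exact zero_mem _
    | algebraMap a =>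
      intro n
      rw [Polynomial.algebraMap_apply, Polynomial.coeff_C]
      split_ifs with h
      · subst h; exact hF0 a
      · exact zero_mem _
    | add x y _ _ hx hy => intro n; rw [Polynomial.coeff_add]; exact add_mem (hx n) (hy n)
    | mul x y _ _ hx hy =>
      intro n
      rw [Polynomial.coeff_mul]
      refine sum_mem fun ij hij => ?_
      rw [← (Finset.mem_antidiagonal.1 hij)]
      exact hFmul _ _ (hx _) (hy _)
  let S : ℕ → Submodule k C := fun n =>
    (Rees.toSubmodule.restrictScalars k).comap ((Polynomial.monomial n).restrictScalars k)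
  have hSmul : ∀ a b, S a * S b ≤ S (a + b) := fun a b => Submodule.mul_le.2 fun x hx y hy => by
    show Polynomial.monomial (a + b) (x * y) ∈ Rees
    rw [← Polynomial.monomial_mul_monomial]
    exact mul_mem hx hy
  have hS0 : B ≤ S 0 := by
    rintro _ ⟨a, rfl⟩
    show Polynomial.monomial 0 (algebraMap A C a) ∈ Rees
    rw [Polynomial.monomial_zero_left, ← Polynomial.algebraMap_apply]
    exact Rees.algebraMap_mem a
  have hS1 : V ≤ S 1 := by
    refine sup_le ?_ ?_
    · rw [← ht]
      refine Submodule.span_le.2 fun x hx => ?_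
      exact Algebra.subset_adjoin (Finset.mem_insert_of_mem (Finset.mem_image_of_mem _ hx))
    · refine Submodule.span_le.2 ?_
      rintro _ rfl
      show Polynomial.monomial 1 (1 : C) ∈ Rees
      rw [Polynomial.monomial_one_one_eq_X]
      exact Algebra.subset_adjoin (Finset.mem_insert_self _ _)
  have hSpow : ∀ n, V ^ n ≤ S n := by
    intro n
    induction n with
    | zero =>
      rw [pow_zero]
      refine fun x hx => hS0 ?_
      obtain ⟨c, rfl⟩ := Submodule.mem_one.1 hx
      exact ⟨algebraMap k A c, by simp⟩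
    | succ n ih => rw [pow_succ]; exact (mul_le_mul' ih hS1).trans (hSmul n 1)
  have hFS : ∀ n, F n ≤ S n := fun n =>
    (mul_le_mul' hS0 (hSpow n)).trans ((hSmul 0 n).trans (le_of_eq (by rw [zero_add])))
  -- homogeneous invariants of positive degree
  let Pos : Set Rees := {p | ∃ d f, 0 < d ∧ f ∈ F d ∧ f ∈ GLin.invariants k H C ∧
    (p : C[X]) = Polynomial.monomial d f}
  obtain ⟨T, hT, hTspan⟩ := Submodule.fg_span_iff_fg_span_finset_subset Pos |>.1
    (IsNoetherian.noetherian (Submodule.span Rees Pos))
  choose d f hd hf hfi hp using fun p : T => hT p.2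
  refine ⟨Finset.univ.image f, le_antisymm ?_ ?_⟩
  · obtain ⟨EA, hEA⟩ := exists_reynolds (V := A) (A := H) hG
    obtain ⟨EC, hEC⟩ := exists_reynolds (V := C) (A := H) hG
    suffices ∀ n, ∀ c ∈ F n, c ∈ GLin.invariants k H C →
        c ∈ Algebra.adjoin k (⇑(algebraMap A C) '' ↑(GLin.invariants k H A) ∪ ↑(Finset.univ.image f)) from
      fun c hc => let ⟨n, hn⟩ := hexh c; this n c hn hc
    intro n
    induction n using Nat.strong_induction_on with
    | _ n ih =>
      intro c hc hci
      rcases Nat.eq_zero_or_pos n with rfl | hn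
      · obtain ⟨a, ha⟩ : c ∈ B := by
          rwa [show F 0 = B by simp [F]] at hc
        refine Algebra.subset_adjoin (Or.inl ⟨EA a, hEA.mem a, ?_⟩)
        have h := LinearMap.congr_fun (hEA.comp_comm hG hEC hAC) a
        simp only [LinearMap.comp_apply] at h
        rw [ha, (hEC.fix c).2 hci] at h
        exact h.symm
      · let p : Rees := ⟨Polynomial.monomial n c, hFS n hc⟩
        have hpP : p ∈ Submodule.span Rees (T : Set Rees) :=
          hTspan ▸ Submodule.subset_span ⟨n, c, hn, hc, hci, rfl⟩
        obtain ⟨q, -, hq⟩ := Submodule.mem_span_finset.1 hpP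
        have hq' := congrArg (fun x : Rees => Polynomial.coeff (x : C[X]) n) hq
        simp only [AddSubmonoidClass.coe_finsetSum, smul_eq_mul, MulMemClass.coe_mul,
          Polynomial.finsetSum_coeff, p, Polynomial.coeff_monomial, if_true] at hq'
        have hEq := congrArg EC hq'
        rw [map_sum, (hEC.fix c).2 hci] at hEq
        rw [← hEq]
        refine sum_mem fun x hx => ?_
        rw [hp ⟨x, hx⟩, ← Polynomial.C_mul_X_pow_eq_monomial, ← mul_assoc, Polynomial.coeff_mul_X_pow']
        split_ifs with hle
        · rw [Polynomial.coeff_mul_C, HopfMod.reynolds_mul_invariant hG hEC _ (hfi _)]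
          refine mul_mem (ih _ (Nat.sub_lt hn (hd ⟨x, hx⟩)) _ ?_ (hEC.mem _))
            (Algebra.subset_adjoin (Or.inr (Finset.mem_image_of_mem _ (Finset.mem_univ _))))
          exact hEC.apply_mem hG (hF _) (hcoeff _ (q x).2 _)
        · rw [map_zero]; exact zero_mem _
  · refine Algebra.adjoin_le (Set.union_subset ?_ ?_)
    · rintro _ ⟨a, ha, rfl⟩
      have h := LinearMap.congr_fun hAC a
      simp only [LinearMap.comp_apply] at h
      rw [show Comod.coact (k := k) (A := H) a = a ⊗ₜ[k] (1 : H) from ha, LinearMap.rTensor_tmul] at h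
      exact h
    · intro x hx
      obtain ⟨p, -, rfl⟩ := Finset.mem_image.1 (Finset.mem_coe.1 hx)
      exact hfi p

end Main

end Groth.Agent.FinGenH28
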